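import Cfsg.Agent.Lib.AutPSL.Lang

/-!
Lang's theorem for `GL` over any finite index type.
-/

set_option autoImplicit false

namespace Cfsg.Agent.Lib.AutPSp

open Matrix Cfsg.Agent.Lib.AutPSL

variable {ι : Type} [Fintype ι] [DecidableEq ι] {F : Type*} [Field F]

/-- A field automorphism on invertible matrices. -/
abbrev mapG (σ : F ≃+* F) : GL ι F →* GL ι F := GeneralLinearGroup.map σ.toRingHom

theorem mapG_iterate (σ : F ≃+* F) (g : GL ι F) (i : ℕ) (a b : ι) :
    ((mapG σ)^[i] g : GL ι F) a b = (σ ^ i : F ≃+* F) (g a b) := by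
  induction i with
  | zero => rfl
  | succ i ih =>
    rw [Function.iterate_succ_apply', pow_succ']
    show σ (((mapG σ)^[i] g : GL ι F) a b) = _
    rw [ih]; rfl

theorem mapG_iterate_order {σ : F ≃+* F} {r : ℕ} (hr : σ ^ r = 1) (g : GL ι F) :
    (mapG σ)^[r] g = g := by
  apply Units.ext
  ext a b
  rw [mapG_iterate, hr]; rfl

theorem mapG_scalar (σ : F ≃+* F) (c : Fˣ) :
    mapG σ (GeneralLinearGroup.scalar ι c) = GeneralLinearGroup.scalar ι (AutPSL.mapU σ c) := by
  apply Units.ext
  ext a b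
  show σ ((GeneralLinearGroup.scalar ι c : GL ι F) a b) = _
  by_cases h : a = b <;> simp [GeneralLinearGroup.scalar, h]

theorem twG_scalar (σ : F ≃+* F) (c : Fˣ) (i : ℕ) :
    tw (mapG σ) (GeneralLinearGroup.scalar ι c) i =
      GeneralLinearGroup.scalar ι (tw (AutPSL.mapU σ) c i) := by
  induction i with
  | zero => simp
  | succ i ih => rw [tw_succ, tw_succ, ih, mapG_scalar, map_mul]

theorem scalarG_commute (c : Fˣ) (g : GL ι F) : Commute (GeneralLinearGroup.scalar ι c) g :=
  (Subgroup.mem_center_iff.1 (by rw [GeneralLinearGroup.center_eq_range_scalar]; exact ⟨c, rfl⟩) g).symm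

theorem scalarG_injective [Nonempty ι] :
    Function.Injective (GeneralLinearGroup.scalar ι : Fˣ →* GL ι F) := by
  intro a b h
  obtain ⟨i⟩ := ‹Nonempty ι›
  apply Units.ext
  simpa [GeneralLinearGroup.scalar] using congrArg (fun M : GL ι F => (M : Matrix ι ι F) i i) h

theorem twG_scalar_mul (σ : F ≃+* F) (c : Fˣ) (g : GL ι F) (i : ℕ) :
    tw (mapG σ) (GeneralLinearGroup.scalar ι c * g) i =
      GeneralLinearGroup.scalar ι (tw (AutPSL.mapU σ) c i) * tw (mapG σ) g i := by
  rw [tw_mul_central, twG_scalar]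
  intro j m
  rw [twG_scalar]
  exact scalarG_commute _ _

theorem fixed_of_twG_scalar [Nonempty ι] {σ : F ≃+* F} {r : ℕ} (hr : σ ^ r = 1) {g : GL ι F}
    {c : Fˣ} (h : tw (mapG σ) g r = GeneralLinearGroup.scalar ι c) : AutPSL.mapU σ c = c := by
  have h1 := tw_succ' (mapG σ) g r
  rw [tw_succ, h, mapG_iterate_order hr, mapG_scalar, (scalarG_commute c g).eq] at h1
  exact scalarG_injective (mul_left_cancel h1)

/-- Lang's theorem for `GL` and a finite cyclic group of field automorphisms. -/
theorem langG {σ : F ≃+* F} {r : ℕ} (hr : orderOf σ = r) (hr0 : 0 < r) {g : GL ι F}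
    (h : tw (mapG σ) g r = 1) : ∃ a : GL ι F, g * mapG σ a = a := by
  classical
  let φ : (ι → F) → (ι → F) := fun v => (g : Matrix ι ι F) *ᵥ fun j => σ (v j)
  have hφ : ∀ (i : ℕ) (v : ι → F), φ^[i] v =
      (tw (mapG σ) g i : GL ι F).1 *ᵥ fun j => (σ ^ i : F ≃+* F) (v j) := by
    intro i v
    induction i with
    | zero => simp
    | succ i ih =>
      rw [Function.iterate_succ_apply', ih]
      show (g : Matrix ι ι F) *ᵥ (fun j => σ.toRingHom
        (((tw (mapG σ) g i : GL ι F).1 *ᵥ fun j => (σ ^ i : F ≃+* F) (v j)) j)) = _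
      simp only [RingHom.map_mulVec]
      rw [Matrix.mulVec_mulVec, tw_succ, Units.val_mul, pow_succ']
      rfl
  have hord : σ ^ r = 1 := by rw [← hr]; exact pow_orderOf_eq_one σ
  have hper : ∀ v, φ^[r] v = v := fun v => by
    rw [hφ, h, hord]; simp
  have hadd : ∀ u v, φ (u + v) = φ u + φ v := fun u v => by
    show _ *ᵥ _ = _ *ᵥ _ + _ *ᵥ _
    rw [← Matrix.mulVec_add]
    congr 1
    funext j; simp
  let Φ : (ι → F) →+ (ι → F) := AddMonoidHom.mk' φ hadd
  have hfix : ∀ v, φ (∑ i ∈ Finset.range r, φ^[i] v) = ∑ i ∈ Finset.range r, φ^[i] v := by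
    intro v
    show Φ _ = _
    rw [map_sum]
    have h1 := Finset.sum_range_succ' (fun i => φ^[i] v) r
    have h2 := Finset.sum_range_succ (fun i => φ^[i] v) r
    rw [h2, hper] at h1
    simp only [Function.iterate_zero, id_eq] at h1
    rw [add_right_cancel h1]
    refine Finset.sum_congr rfl fun i _ => ?_
    exact (Function.iterate_succ_apply' φ i v).symm
  have hspan : ⊤ ≤ Submodule.span F {v : ι → F | φ v = v} := by
    rintro v -
    by_contra hv
    obtain ⟨ψ, hψv, hψ⟩ := Submodule.exists_dual_map_eq_bot_of_notMem hv inferInstance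
    have hker : ∀ w, φ w = w → ψ w = 0 := fun w hw => by
      have : ψ w ∈ (Submodule.span F {v : ι → F | φ v = v}).map ψ :=
        ⟨w, Submodule.subset_span hw, rfl⟩
      rwa [hψ, Submodule.mem_bot] at this
    let χ : Fin r → (F →* F) := fun i => ((σ ^ (i : ℕ) : F ≃+* F) : F →+* F).toMonoidHom
    have hχ : Function.Injective χ := by
      intro i j hij
      have : σ ^ (i : ℕ) = σ ^ (j : ℕ) := RingEquiv.ext fun x => DFunLike.congr_fun hij x
      apply Fin.ext
      exact pow_injOn_Iio_orderOf (by simp [hr]) (by simp [hr]) this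
    have hind := (linearIndependent_monoidHom F F).comp χ hχ
    have h0 : ∑ i : Fin r, ψ (φ^[(i : ℕ)] v) • (fun f : F →* F => (f : F → F)) (χ i) = 0 := by
      funext a
      have := hker _ (hfix (a • v))
      rw [map_sum, Finset.sum_range] at this
      rw [Finset.sum_apply]
      refine (Finset.sum_congr rfl fun i _ => ?_).trans this
      rw [Pi.smul_apply, smul_eq_mul, hφ, hφ]
      have : (fun j => (σ ^ (i : ℕ) : F ≃+* F) ((a • v) j)) =
          (σ ^ (i : ℕ) : F ≃+* F) a • fun j => (σ ^ (i : ℕ) : F ≃+* F) (v j) := by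
        funext j; simp
      rw [this, Matrix.mulVec_smul, map_smul, smul_eq_mul, mul_comm]
      rfl
    have := Fintype.linearIndependent_iff.1 hind _ h0 ⟨0, hr0⟩
    simp only [Function.iterate_zero, id_eq] at this
    exact hψv this
  obtain ⟨b, hb, hbsp, hbli⟩ := exists_linearIndependent F {v : ι → F | φ v = v}
  rw [top_le_iff.1 hspan] at hbsp
  let B : Module.Basis b F (ι → F) := Module.Basis.mk hbli (by rw [Subtype.range_coe, hbsp])
  let e : ι ≃ b := (Pi.basisFun F ι).indexEquiv B
  let A : Matrix ι ι F := Matrix.of fun i j => (e j : ι → F) i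
  have hA : IsUnit A := Matrix.linearIndependent_cols_iff_isUnit.1 (hbli.comp e e.injective)
  refine ⟨hA.unit, Units.ext ?_⟩
  ext i j
  have := congrFun (hb (e j).2) i
  rw [Units.val_mul, Matrix.mul_apply]
  exact this

variable [Finite F]

/-- A scalar twisted product can be normalised to one. -/
theorem exists_scalarG_normalise [Nonempty ι] {σ : F ≃+* F} {r : ℕ} (hr : orderOf σ = r)
    (hr0 : 0 < r) {g : GL ι F} {l : Fˣ} (hl : tw (mapG σ) g r = GeneralLinearGroup.scalar ι l) :
    ∃ c : Fˣ, tw (mapG σ) (GeneralLinearGroup.scalar ι c * g) r = 1 := by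
  have hfix : l ∈ fixU σ := fixed_of_twG_scalar (by rw [← hr]; exact pow_orderOf_eq_one σ) hl
  rw [← range_normU hr hr0] at hfix
  obtain ⟨c, hc⟩ := hfix
  refine ⟨c⁻¹, ?_⟩
  rw [twG_scalar_mul, ← normU_apply, map_inv, hc, map_inv, hl, inv_mul_cancel]

/-- An element moved by a scalar is a scalar times a fixed element. -/
theorem exists_fixed_of_scalar_moved [Nonempty ι] {σ : F ≃+* F} {r : ℕ} (hr : orderOf σ = r)
    (hr0 : 0 < r) {g : GL ι F} {l : Fˣ} (hl : mapG σ g = GeneralLinearGroup.scalar ι l * g) :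
    ∃ (c : Fˣ) (h : GL ι F), mapG σ h = h ∧ g = GeneralLinearGroup.scalar ι c * h := by
  have hord : σ ^ r = 1 := by rw [← hr]; exact pow_orderOf_eq_one σ
  have hit : ∀ i, (mapG σ)^[i] g =
      GeneralLinearGroup.scalar ι (tw (AutPSL.mapU σ) l i) * g := by
    intro i
    induction i with
    | zero => simp
    | succ i ih =>
      rw [Function.iterate_succ_apply', ih, map_mul, hl, mapG_scalar, tw_succ, map_mul,
        (scalarG_commute (AutPSL.mapU σ (tw (AutPSL.mapU σ) l i)) (GeneralLinearGroup.scalar ι l)).eq.symm]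
      simp only [mul_assoc]
  have h := hit r
  rw [mapG_iterate_order hord, eq_comm, mul_eq_right, ← map_one (GeneralLinearGroup.scalar ι)] at h
  have hl1 : l ∈ (ratioU σ).range := by
    rw [← ker_normU hr hr0]; exact scalarG_injective h
  obtain ⟨c, hc⟩ := hl1
  refine ⟨c⁻¹, GeneralLinearGroup.scalar ι c * g, ?_, ?_⟩
  · rw [map_mul, hl, mapG_scalar, ← mul_assoc, ← map_mul, ← hc, ratioU_apply, mul_div_cancel]
  · rw [← mul_assoc, ← map_mul, inv_mul_cancel, map_one, one_mul]

end Cfsg.Agent.Lib.AutPSp
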